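import Cfsg.Agent.H148.Oct.SepG2
import Cfsg.Agent.H808.RV.Iso
import Cfsg.Agent.H836.RV.SLThree
import Cfsg.Agent.H170.RV.Mod

/-!
# TEAM RV, box R5 for `G₂(q)`: `2, 3 ∈ π`, characteristic `p ≥ 5`, `p ∉ π` implies `¬ DB π S`

The group `X = SL₂(3)` in a long root `SL₂(q)` lies in a Hall `π`-subgroup `H`; by the 60 degree theorem on the
octonions all `H`-conjugates of the involution `z` of `X` commute with `X`, so they are equal to `z`.  Hence
`H ≤ C(z)`, the stabiliser of a quaternion subalgebra, whose index is divisible by `3`.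
-/

set_option autoImplicit false
set_option linter.unusedSectionVars false
set_option linter.unusedSimpArgs false
set_option linter.unreachableTactic false
set_option linter.unusedTactic false
set_option linter.unnecessarySeqFocus false

namespace Cfsg.Agent.H557.RV

open Cfsg.Lie Cfsg.Agent.H161.Oct Cfsg.Agent.H148.Oct Cfsg.Agent.H836.RV Cfsg.Agent.H988.CPi Cfsg.Agent.H571.RV

universe u

variable {K : Type u} [Field K]

/-- the embedding of `SL₂` -/
noncomputable def EE2 (K : Type u) [Field K] : SL K →* ↥(AutO K) where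
  toFun P := ⟨slM K (emb2 K P), slM_mem _⟩
  map_one' := Subtype.ext (by
    show slM K (emb2 K 1) = 1
    rw [map_one, map_one])
  map_mul' P Q := Subtype.ext (by
    show slM K (emb2 K (P * Q)) = slM K (emb2 K P) * slM K (emb2 K Q)
    rw [map_mul, map_mul])

theorem EE2_apply (P : SL K) (x : V K) : (EE2 K P).1 x = slF (e2m P.1) x := rfl

section Coord

variable (P : SL K) (x : V K)

theorem E0 : (EE2 K P).1 x 0 = x 0 := rfl
theorem E1 : (EE2 K P).1 x 1 = P.1 0 0 * x 1 + P.1 0 1 * x 3 := by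
  rw [EE2_apply, slF1]; simp [e2m]
theorem E2 : (EE2 K P).1 x 2 = x 2 := by
  rw [EE2_apply, slF2]; simp [e2m]
theorem E3 : (EE2 K P).1 x 3 = P.1 1 0 * x 1 + P.1 1 1 * x 3 := by
  rw [EE2_apply, slF3]; simp [e2m]
theorem E4 : (EE2 K P).1 x 4 = P.1 1 1 * x 4 - P.1 1 0 * x 6 := by
  rw [EE2_apply, slF4]; simp [e2m]; ring
theorem E5 : (EE2 K P).1 x 5 = x 5 := by
  have hd := P.2
  rw [Matrix.det_fin_two] at hd
  rw [EE2_apply, slF5]; simp [e2m]; linear_combination x 5 * hd
theorem E6 : (EE2 K P).1 x 6 = P.1 0 0 * x 6 - P.1 0 1 * x 4 := by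
  rw [EE2_apply, slF6]; simp [e2m]; ring
theorem E7 : (EE2 K P).1 x 7 = x 7 := rfl

end Coord

/-! ### images of the basis vectors -/

theorem Es0 (P : SL K) : (EE2 K P).1 (Pi.single 0 1) = Pi.single 0 1 := by
  apply ext8
  · rw [E0] <;> simp
  · rw [E1] <;> simp
  · rw [E2] <;> simp
  · rw [E3] <;> simp
  · rw [E4] <;> simp
  · rw [E5] <;> simp
  · rw [E6] <;> simp
  · rw [E7] <;> simp

theorem Es1 (P : SL K) : (EE2 K P).1 (Pi.single 1 1) = P.1 0 0 • Pi.single 1 1 + P.1 1 0 • Pi.single 3 1 := by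
  apply ext8
  · rw [E0] <;> simp
  · rw [E1] <;> simp
  · rw [E2] <;> simp
  · rw [E3] <;> simp
  · rw [E4] <;> simp
  · rw [E5] <;> simp
  · rw [E6] <;> simp
  · rw [E7] <;> simp

theorem Es2 (P : SL K) : (EE2 K P).1 (Pi.single 2 1) = Pi.single 2 1 := by
  apply ext8
  · rw [E0] <;> simp
  · rw [E1] <;> simp
  · rw [E2] <;> simp
  · rw [E3] <;> simp
  · rw [E4] <;> simp
  · rw [E5] <;> simp
  · rw [E6] <;> simp
  · rw [E7] <;> simp

theorem Es3 (P : SL K) : (EE2 K P).1 (Pi.single 3 1) = P.1 0 1 • Pi.single 1 1 + P.1 1 1 • Pi.single 3 1 := by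
  apply ext8
  · rw [E0] <;> simp
  · rw [E1] <;> simp
  · rw [E2] <;> simp
  · rw [E3] <;> simp
  · rw [E4] <;> simp
  · rw [E5] <;> simp
  · rw [E6] <;> simp
  · rw [E7] <;> simp

theorem Es4 (P : SL K) : (EE2 K P).1 (Pi.single 4 1) = P.1 1 1 • Pi.single 4 1 - P.1 0 1 • Pi.single 6 1 := by
  apply ext8
  · rw [E0] <;> simp
  · rw [E1] <;> simp
  · rw [E2] <;> simp
  · rw [E3] <;> simp
  · rw [E4] <;> simp
  · rw [E5] <;> simp
  · rw [E6] <;> simp
  · rw [E7] <;> simp

theorem Es5 (P : SL K) : (EE2 K P).1 (Pi.single 5 1) = Pi.single 5 1 := by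
  apply ext8
  · rw [E0] <;> simp
  · rw [E1] <;> simp
  · rw [E2] <;> simp
  · rw [E3] <;> simp
  · rw [E4] <;> simp
  · rw [E5] <;> simp
  · rw [E6] <;> simp
  · rw [E7] <;> simp

theorem Es6 (P : SL K) : (EE2 K P).1 (Pi.single 6 1) = P.1 0 0 • Pi.single 6 1 - P.1 1 0 • Pi.single 4 1 := by
  apply ext8
  · rw [E0] <;> simp
  · rw [E1] <;> simp
  · rw [E2] <;> simp
  · rw [E3] <;> simp
  · rw [E4] <;> simp
  · rw [E5] <;> simp
  · rw [E6] <;> simp
  · rw [E7] <;> simp

theorem Es7 (P : SL K) : (EE2 K P).1 (Pi.single 7 1) = Pi.single 7 1 := by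
  apply ext8
  · rw [E0] <;> simp
  · rw [E1] <;> simp
  · rw [E2] <;> simp
  · rw [E3] <;> simp
  · rw [E4] <;> simp
  · rw [E5] <;> simp
  · rw [E6] <;> simp
  · rw [E7] <;> simp

/-- the action on the octonions -/
noncomputable def rho (K : Type u) [Field K] : ↥(AutO K) →* Module.End K (V K) where
  toFun g := (g.1 : V K →ₗ[K] V K)
  map_one' := rfl
  map_mul' _ _ := rfl

theorem rho_apply (g : ↥(AutO K)) (x : V K) : rho K g x = g.1 x := rfl

/-- elements of `SL₂` of trace one -/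
theorem six (P : SL K) (h : P.1 * P.1 = P.1 - 1) :
    (rho K (EE2 K P) - 1) * (rho K (EE2 K P) * rho K (EE2 K P) - rho K (EE2 K P) + 1) = 0 := by
  have h00 := congrFun (congrFun h 0) 0
  have h01 := congrFun (congrFun h 0) 1
  have h10 := congrFun (congrFun h 1) 0
  have h11 := congrFun (congrFun h 1) 1
  simp only [Matrix.mul_apply, Fin.sum_univ_two, Matrix.sub_apply, Matrix.one_apply_eq, Matrix.one_apply_ne,
    ne_eq, zero_ne_one, one_ne_zero, not_false_eq_true, sub_zero] at h00 h01 h10 h11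
  have h00' : P.1 0 0 * P.1 0 0 + P.1 0 1 * P.1 1 0 = P.1 0 0 - 1 := by simpa using h00
  have h01' : P.1 0 0 * P.1 0 1 + P.1 0 1 * P.1 1 1 = P.1 0 1 := by simpa using h01
  have h10' : P.1 1 0 * P.1 0 0 + P.1 1 1 * P.1 1 0 = P.1 1 0 := by simpa using h10
  have h11' : P.1 1 0 * P.1 0 1 + P.1 1 1 * P.1 1 1 = P.1 1 1 - 1 := by simpa using h11
  -- the second factor has values in `DD`
  have key : ∀ x : V K, (rho K (EE2 K P) * rho K (EE2 K P) - rho K (EE2 K P) + 1) x =
      ![x 0, 0, x 2, 0, 0, x 5, 0, x 7] := by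
    intro x
    have e : (rho K (EE2 K P) * rho K (EE2 K P) - rho K (EE2 K P) + 1) x =
        (EE2 K P).1 ((EE2 K P).1 x) - (EE2 K P).1 x + x := rfl
    rw [e]
    apply ext8
    · simp [E0]
    · simp only [Pi.add_apply, Pi.sub_apply, E1, E3]
      show _ = (0 : K)
      linear_combination x 1 * h00' + x 3 * h01'
    · simp [E2]
    · simp only [Pi.add_apply, Pi.sub_apply, E1, E3]
      show _ = (0 : K)
      linear_combination x 1 * h10' + x 3 * h11'
    · simp only [Pi.add_apply, Pi.sub_apply, E4, E6]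
      show _ = (0 : K)
      linear_combination x 4 * h11' - x 6 * h10'
    · simp [E5]
    · simp only [Pi.add_apply, Pi.sub_apply, E4, E6]
      show _ = (0 : K)
      linear_combination x 6 * h00' - x 4 * h01'
    · simp [E7]
  refine LinearMap.ext fun x => ?_
  show rho K (EE2 K P) _ - _ = (0 : V K)
  rw [key, rho_apply]
  apply ext8
  · simp [E0]
  · simp [E1]
  · simp [E2]
  · simp [E3]
  · simp [E4]
  · simp [E5]
  · simp [E6]
  · simp [E7]

/-- the involution -/
noncomputable def zz (K : Type u) [Field K] : ↥(AutO K) := EE2 K (-1)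

theorem neg_one_00 : (-1 : SL K).1 0 0 = -1 := by
  rw [Matrix.SpecialLinearGroup.coe_neg]; simp
theorem neg_one_01 : (-1 : SL K).1 0 1 = 0 := by
  rw [Matrix.SpecialLinearGroup.coe_neg]; simp
theorem neg_one_10 : (-1 : SL K).1 1 0 = 0 := by
  rw [Matrix.SpecialLinearGroup.coe_neg]; simp
theorem neg_one_11 : (-1 : SL K).1 1 1 = -1 := by
  rw [Matrix.SpecialLinearGroup.coe_neg]; simp

theorem zz_apply (x : V K) : (zz K).1 x = ![x 0, -x 1, x 2, -x 3, -x 4, x 5, -x 6, x 7] := by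
  apply ext8
  · exact E0 _ _
  · rw [zz, E1, neg_one_00, neg_one_01]; simp
  · exact E2 _ _
  · rw [zz, E3, neg_one_10, neg_one_11]; simp
  · rw [zz, E4, neg_one_10, neg_one_11]; simp
  · exact E5 _ _
  · rw [zz, E6, neg_one_00, neg_one_01]; simp
  · exact E7 _ _

theorem ext_single {f g : V K ≃ₗ[K] V K} (h : ∀ i, f (Pi.single i 1) = g (Pi.single i 1)) : f = g := by
  refine LinearEquiv.toLinearMap_injective ((Pi.basisFun K (Fin 8)).ext fun i => ?_)
  rw [Pi.basisFun_apply]
  exact h i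

theorem zz_ne_one (h2 : (2 : K) ≠ 0) : zz K ≠ 1 := by
  intro h
  have h1 : (zz K).1 (Pi.single 1 1) = Pi.single 1 1 := by rw [h]; rfl
  rw [zz_apply] at h1
  have h3 := congrFun h1 1
  have h4 : (-1 : K) = 1 := by simpa using h3
  apply h2
  linear_combination -h4

/-- products of basis vectors -/
theorem m14 : zornMul (Pi.single 1 1 : V K) (Pi.single 4 1) = Pi.single 0 1 := by
  apply ext8 <;> simp [mul0, mul1, mul2, mul3, mul4, mul5, mul6, mul7]
theorem m41 : zornMul (Pi.single 4 1 : V K) (Pi.single 1 1) = Pi.single 7 1 := by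
  apply ext8 <;> simp [mul0, mul1, mul2, mul3, mul4, mul5, mul6, mul7]
theorem m31 : zornMul (Pi.single 3 1 : V K) (Pi.single 1 1) = Pi.single 5 1 := by
  apply ext8 <;> simp [mul0, mul1, mul2, mul3, mul4, mul5, mul6, mul7]
theorem m46 : zornMul (Pi.single 4 1 : V K) (Pi.single 6 1) = Pi.single 2 1 := by
  apply ext8 <;> simp [mul0, mul1, mul2, mul3, mul4, mul5, mul6, mul7]

theorem zsmul_zsmul (c d : K) (x y : V K) : zornMul (c • x) (d • y) = (c * d) • zornMul x y := by
  rw [zsmul_mul, zmul_smul, smul_smul]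

/-- an automorphism which is `ε` on `DD^⊥` -/
theorem eq_of_sign {g : ↥(AutO K)} {c : K} (hc : c * c = 1) (h1 : g.1 (Pi.single 1 1) = c • Pi.single 1 1)
    (h3 : g.1 (Pi.single 3 1) = c • Pi.single 3 1) (h4 : g.1 (Pi.single 4 1) = c • Pi.single 4 1)
    (h6 : g.1 (Pi.single 6 1) = c • Pi.single 6 1) :
    g.1 (Pi.single 0 1) = Pi.single 0 1 ∧ g.1 (Pi.single 2 1) = Pi.single 2 1 ∧
      g.1 (Pi.single 5 1) = Pi.single 5 1 ∧ g.1 (Pi.single 7 1) = Pi.single 7 1 := by
  refine ⟨?_, ?_, ?_, ?_⟩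
  · rw [← m14, mem_AutO.1 g.2, h1, h4, zsmul_zsmul, hc, one_smul]
  · rw [← m46, mem_AutO.1 g.2, h4, h6, zsmul_zsmul, hc, one_smul]
  · rw [← m31, mem_AutO.1 g.2, h3, h1, zsmul_zsmul, hc, one_smul]
  · rw [← m41, mem_AutO.1 g.2, h4, h1, zsmul_zsmul, hc, one_smul]

/-- vectors negated by `zz` -/
theorem of_neg (h2 : (2 : K) ≠ 0) {x : V K} (h : (zz K).1 x = -x) : x 0 = 0 ∧ x 2 = 0 ∧ x 5 = 0 ∧ x 7 = 0 := by
  rw [zz_apply] at h
  have hh : ∀ a : K, a = -a → a = 0 := by
    intro a ha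
    have : 2 * a = 0 := by linear_combination ha
    exact (mul_eq_zero.1 this).resolve_left h2
  exact ⟨hh _ (congrFun h 0), hh _ (congrFun h 2), hh _ (congrFun h 5), hh _ (congrFun h 7)⟩

/-- **The involutions commuting with `X`.** -/
theorem cent (h2 : (2 : K) ≠ 0) {a b : K} (hab : a ^ 2 + b ^ 2 = -1) {g : ↥(AutO K)}
    (hi : ∀ x, g.1 ((EE2 K (qi K)).1 x) = (EE2 K (qi K)).1 (g.1 x))
    (hj : ∀ x, g.1 ((EE2 K (qj hab)).1 x) = (EE2 K (qj hab)).1 (g.1 x)) (hg2 : ∀ x, g.1 (g.1 x) = x) :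
    g = 1 ∨ g = zz K := by
  have hh : ∀ c : K, 2 * a * c = 0 → 2 * b * c = 0 → c = 0 := by
    intro c h h'
    have h3 : (2 * 2) * c = 0 := by linear_combination (-(2 * a)) * h - (2 * b) * h' + 4 * c * hab
    rcases mul_eq_zero.1 h3 with h4 | h4
    · exact absurd h4 (mul_ne_zero h2 h2)
    · exact h4
  have ei : ∀ x : V K, (EE2 K (qi K)).1 x = ![x 0, x 3, x 2, -x 1, x 6, x 5, -x 4, x 7] := by
    intro x
    apply ext8
    · exact E0 _ _
    · rw [E1]; simp [qi]
    · exact E2 _ _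
    · rw [E3]; simp [qi]
    · rw [E4]; simp [qi]
    · exact E5 _ _
    · rw [E6]; simp [qi]
    · exact E7 _ _
  have ej : ∀ x : V K, (EE2 K (qj hab)).1 x =
      ![x 0, a * x 1 + b * x 3, x 2, b * x 1 - a * x 3, -(a * x 4) - b * x 6, x 5, a * x 6 - b * x 4, x 7] := by
    intro x
    apply ext8
    · exact E0 _ _
    · rw [E1]; simp [qj]
    · exact E2 _ _
    · rw [E3]; simp [qj]; ring
    · rw [E4]; simp [qj]
    · exact E5 _ _
    · rw [E6]; simp [qj]
    · exact E7 _ _
  have hz : ∀ x, g.1 ((zz K).1 x) = (zz K).1 (g.1 x) := by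
    intro x
    have e : ∀ y : V K, (zz K).1 y = (EE2 K (qi K)).1 ((EE2 K (qi K)).1 y) := by
      intro y
      rw [ei, ei, zz_apply]
      apply ext8 <;> simp
    rw [e, hi, hi, ← e]
  -- images of the basis vectors
  set u := g.1 (Pi.single 1 1) with hu
  set w := g.1 (Pi.single 4 1) with hw
  have u0 := of_neg h2 (x := u) (by
    rw [hu, ← hz, ← map_neg]; congr 1
    rw [zz_apply]; apply ext8 <;> simp)
  have w0 := of_neg h2 (x := w) (by
    rw [hw, ← hz, ← map_neg]; congr 1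
    rw [zz_apply]; apply ext8 <;> simp)
  have g3 : g.1 (Pi.single 3 1) = -((EE2 K (qi K)).1 u) := by
    rw [hu, ← hi, ← map_neg]; congr 1
    rw [ei]; apply ext8 <;> simp
  have g6 : g.1 (Pi.single 6 1) = -((EE2 K (qi K)).1 w) := by
    rw [hw, ← hi, ← map_neg]; congr 1
    rw [ei]; apply ext8 <;> simp
  have j1 : a • u + b • g.1 (Pi.single 3 1) = (EE2 K (qj hab)).1 u := by
    rw [hu, ← hj, ← map_smul, ← map_smul, ← map_add]; congr 1
    rw [ej]; apply ext8 <;> simp
  have j4 : -(a • w) - b • g.1 (Pi.single 6 1) = (EE2 K (qj hab)).1 w := by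
    rw [hw, ← hj, ← map_smul, ← map_smul, ← map_neg, ← map_sub]; congr 1
    rw [ej]; apply ext8 <;> simp
  rw [g3, ei, ej] at j1
  rw [g6, ei, ej] at j4
  have u3 : u 3 = 0 := by
    have h1 := congrFun j1 1
    have h3 := congrFun j1 3
    simp only [Pi.add_apply, Pi.smul_apply, Pi.neg_apply, smul_eq_mul, Matrix.cons_val_zero, Matrix.cons_val_one,
      Matrix.cons_val] at h1 h3
    exact hh _ (by linear_combination h3) (by linear_combination -h1)
  have u4 : u 4 = 0 := by
    have h1 := congrFun j1 4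
    have h3 := congrFun j1 6
    simp only [Pi.add_apply, Pi.smul_apply, Pi.neg_apply, smul_eq_mul, Matrix.cons_val_zero, Matrix.cons_val_one,
      Matrix.cons_val] at h1 h3
    exact hh _ (by linear_combination h1) (by linear_combination h3)
  have w1 : w 1 = 0 := by
    have h1 := congrFun j4 1
    have h3 := congrFun j4 3
    simp only [Pi.sub_apply, Pi.smul_apply, Pi.neg_apply, smul_eq_mul, Matrix.cons_val_zero, Matrix.cons_val_one,
      Matrix.cons_val] at h1 h3
    exact hh _ (by linear_combination -h1) (by linear_combination -h3)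
  have w6 : w 6 = 0 := by
    have h1 := congrFun j4 4
    have h3 := congrFun j4 6
    simp only [Pi.sub_apply, Pi.smul_apply, Pi.neg_apply, smul_eq_mul, Matrix.cons_val_zero, Matrix.cons_val_one,
      Matrix.cons_val] at h1 h3
    exact hh _ (by linear_combination -h3) (by linear_combination h1)
  have f1 : g.1 (Pi.single 1 1) = u 1 • Pi.single 1 1 + u 6 • Pi.single 6 1 := by
    rw [← hu]
    apply ext8 <;> simp [u0.1, u0.2.1, u0.2.2.1, u0.2.2.2, u3, u4]
  have f4 : g.1 (Pi.single 4 1) = w 3 • Pi.single 3 1 + w 4 • Pi.single 4 1 := by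
    rw [← hw]
    apply ext8 <;> simp [w0.1, w0.2.1, w0.2.2.1, w0.2.2.2, w1, w6]
  have f3 : g.1 (Pi.single 3 1) = u 1 • Pi.single 3 1 - u 6 • Pi.single 4 1 := by
    rw [g3, ei]
    apply ext8 <;> simp [u0.1, u0.2.1, u0.2.2.1, u0.2.2.2, u3, u4]
  have f6 : g.1 (Pi.single 6 1) = -w 3 • Pi.single 1 1 + w 4 • Pi.single 6 1 := by
    rw [g6, ei]
    apply ext8 <;> simp [w0.1, w0.2.1, w0.2.2.1, w0.2.2.2, w1, w6]
  have s1 := hg2 (Pi.single 1 1)
  rw [f1, map_add, map_smul, map_smul, f1, f6] at s1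
  have s11 := congrFun s1 1
  have s16 := congrFun s1 6
  have s4 := hg2 (Pi.single 6 1)
  rw [f6, map_add, map_smul, map_smul, f1, f6] at s4
  have s41 := congrFun s4 1
  have s46 := congrFun s4 6
  simp only [Pi.add_apply, Pi.smul_apply, smul_eq_mul, Pi.single_apply, Fin.reduceEq, if_true, if_false, mul_one,
    mul_zero, add_zero, zero_add] at s11 s16 s41 s46
  have hb := map_bl g.2 (Pi.single 1 1) (Pi.single 4 1)
  rw [f1, f4] at hb
  simp only [bl, Pi.add_apply, Pi.smul_apply, smul_eq_mul, Pi.single_apply, Fin.reduceEq, if_true, if_false, mul_one,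
    mul_zero, add_zero, zero_add, zero_mul, sub_zero, zero_sub] at hb
  have hne : u 1 + w 4 ≠ 0 := by
    intro h
    apply h2
    have h4 : w 4 = -u 1 := by linear_combination h
    rw [h4] at hb
    linear_combination hb - s11
  have hu6 : u 6 = 0 := by
    have : (u 1 + w 4) * u 6 = 0 := by linear_combination s16
    exact (mul_eq_zero.1 this).resolve_left hne
  have hw3 : w 3 = 0 := by
    have : (u 1 + w 4) * w 3 = 0 := by linear_combination -s41
    exact (mul_eq_zero.1 this).resolve_left hne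
  have h11 : u 1 * u 1 = 1 := by rw [hu6] at s11; linear_combination s11
  have h14 : w 4 = u 1 := by
    rw [hu6] at hb
    linear_combination (-(u 1)) * hb - w 4 * h11
  rw [hu6, zero_smul, add_zero] at f1
  rw [hu6, zero_smul, sub_zero] at f3
  rw [hw3, zero_smul, zero_add, h14] at f4
  rw [hw3, neg_zero, zero_smul, zero_add, h14] at f6
  obtain ⟨f0, f2, f5, f7⟩ := eq_of_sign h11 f1 f3 f4 f6
  rcases mul_self_eq_one_iff.1 h11 with h | h
  · left
    rw [h, one_smul] at f1 f3 f4 f6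
    apply Subtype.ext
    refine ext_single fun i => ?_
    show _ = Pi.single i 1
    fin_cases i
    exacts [f0, f1, f2, f3, f4, f5, f6, f7]
  · right
    rw [h] at f1 f3 f4 f6
    apply Subtype.ext
    refine ext_single fun i => ?_
    rw [zz_apply]
    fin_cases i
    · refine f0.trans ?_; apply ext8 <;> simp
    · refine f1.trans ?_; apply ext8 <;> simp
    · refine f2.trans ?_; apply ext8 <;> simp
    · refine f3.trans ?_; apply ext8 <;> simp
    · refine f4.trans ?_; apply ext8 <;> simp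
    · refine f5.trans ?_; apply ext8 <;> simp
    · refine f6.trans ?_; apply ext8 <;> simp
    · refine f7.trans ?_; apply ext8 <;> simp

/-! ### the order of the centralizer of `zz` -/

theorem zz_DD (h2 : (2 : K) ≠ 0) (x : V K) : (zz K).1 x = x ↔ x ∈ DD K := by
  rw [zz_apply, mem_DD]
  have hh : ∀ a : K, -a = a → a = 0 := by
    intro a ha
    have : 2 * a = 0 := by linear_combination -ha
    exact (mul_eq_zero.1 this).resolve_left h2
  constructor
  · intro h
    exact ⟨hh _ (congrFun h 1), hh _ (congrFun h 3), hh _ (congrFun h 4), hh _ (congrFun h 6)⟩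
  · rintro ⟨h1, h3, h4, h6⟩
    apply ext8 <;> simp [h1, h3, h4, h6]

theorem mem_KK_of_comm (h2 : (2 : K) ≠ 0) {g : ↥(AutO K)} (h : g * zz K = zz K * g) : g ∈ KK K := by
  refine mem_KK_of fun x hx => ?_
  rw [← zz_DD h2] at hx ⊢
  have h1 : (zz K).1 (g.1 x) = g.1 ((zz K).1 x) := congrArg (fun f : ↥(AutO K) => f.1 x) h.symm
  rw [h1, hx]

theorem m02 : zornMul (Pi.single 0 1 : V K) (Pi.single 2 1) = Pi.single 2 1 := by
  apply ext8 <;> simp [mul0, mul1, mul2, mul3, mul4, mul5, mul6, mul7]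
theorem m25 : zornMul (Pi.single 2 1 : V K) (Pi.single 5 1) = Pi.single 0 1 := by
  apply ext8 <;> simp [mul0, mul1, mul2, mul3, mul4, mul5, mul6, mul7]
theorem m52 : zornMul (Pi.single 5 1 : V K) (Pi.single 2 1) = Pi.single 7 1 := by
  apply ext8 <;> simp [mul0, mul1, mul2, mul3, mul4, mul5, mul6, mul7]
theorem m23 : zornMul (Pi.single 2 1 : V K) (Pi.single 3 1) = Pi.single 4 1 := by
  apply ext8 <;> simp [mul0, mul1, mul2, mul3, mul4, mul5, mul6, mul7]
theorem m12 : zornMul (Pi.single 1 1 : V K) (Pi.single 2 1) = Pi.single 6 1 := by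
  apply ext8 <;> simp [mul0, mul1, mul2, mul3, mul4, mul5, mul6, mul7]
theorem m01 : zornMul (Pi.single 0 1 : V K) (Pi.single 1 1) = Pi.single 1 1 := by
  apply ext8 <;> simp [mul0, mul1, mul2, mul3, mul4, mul5, mul6, mul7]
theorem m03 : zornMul (Pi.single 0 1 : V K) (Pi.single 3 1) = Pi.single 3 1 := by
  apply ext8 <;> simp [mul0, mul1, mul2, mul3, mul4, mul5, mul6, mul7]
theorem m17 : zornMul (Pi.single 1 1 : V K) (Pi.single 7 1) = Pi.single 1 1 := by
  apply ext8 <;> simp [mul0, mul1, mul2, mul3, mul4, mul5, mul6, mul7]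
theorem m37 : zornMul (Pi.single 3 1 : V K) (Pi.single 7 1) = Pi.single 3 1 := by
  apply ext8 <;> simp [mul0, mul1, mul2, mul3, mul4, mul5, mul6, mul7]

theorem o_eq : (o : V K) = Pi.single 0 1 + Pi.single 7 1 := by
  apply ext8 <;> simp [o]

/-- the shape of the image of `e₀` -/
theorem SK_e0 {g : ↥(AutO K)} (hg : g ∈ SK K) :
    g.1 (Pi.single 0 1) = Pi.single 0 1 + (g.1 (Pi.single 0 1) 2) • Pi.single 2 1 := by
  obtain ⟨hK, h2⟩ := hg
  set f := g.1 (Pi.single 0 1) with hf
  have hD : f ∈ DD K := (hK _).2 (by rw [mem_DD]; simp)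
  obtain ⟨f1, f3, f4, f6⟩ := hD
  have h3 : zornMul f (Pi.single 2 1) = Pi.single 2 1 := by
    conv_rhs => rw [← h2, ← m02, mem_AutO.1 g.2, h2]
  have e0 : f 0 = 1 := by
    have := congrFun h3 2
    rw [mul2] at this
    simpa using this
  have e5 : f 5 = 0 := by
    have := congrFun h3 7
    rw [mul7] at this
    simpa using this
  have e7 : f 7 = 0 := by
    have := map_tr g.2 (Pi.single 0 1 : V K)
    rw [← hf, tr, tr, e0] at this
    simpa using this
  apply ext8 <;> simp [e0, f1, f3, f4, e5, f6, e7]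

/-- the pointwise stabilizer of `DD` -/
theorem fix_DD {g : ↥(AutO K)} (hg : g ∈ SK K) (h0 : g.1 (Pi.single 0 1) = Pi.single 0 1) :
    ∃ P : SL K, EE2 K P = g := by
  obtain ⟨hK, h2⟩ := hg
  have h7 : g.1 (Pi.single 7 1) = Pi.single 7 1 := by
    have h1 := map_o g.2
    rw [o_eq, map_add, h0] at h1
    exact add_left_cancel h1
  have h5 : g.1 (Pi.single 5 1) = Pi.single 5 1 := by
    set f := g.1 (Pi.single 5 1) with hf
    have hD : f ∈ DD K := (hK _).2 (by rw [mem_DD]; simp)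
    obtain ⟨f1, f3, f4, f6⟩ := hD
    have h3 : zornMul (Pi.single 2 1) f = Pi.single 0 1 := by
      rw [hf, ← h2, ← mem_AutO.1 g.2, m25, h0]
    have h4 : zornMul f (Pi.single 2 1) = Pi.single 7 1 := by
      rw [hf]
      conv_lhs => rw [← h2]
      rw [← mem_AutO.1 g.2, m52, h7]
    have e5 : f 5 = 1 := by
      have := congrFun h3 0
      rw [mul0] at this
      simpa using this
    have e7 : f 7 = 0 := by
      have := congrFun h3 2
      rw [mul2] at this
      simpa using this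
    have e0 : f 0 = 0 := by
      have := congrFun h4 2
      rw [mul2] at this
      simpa using this
    have e2 : f 2 = 0 := by
      have := map_nm g.2 (Pi.single 5 1 : V K)
      rw [← hf, nm, nm, e0, e5, e7, f1, f3] at this
      simpa using this
    apply ext8 <;> simp [e0, f1, e2, f3, f4, e5, f6, e7]
  have key : ∀ k : Fin 8, zornMul (Pi.single 0 1) (Pi.single k 1 : V K) = Pi.single k 1 →
      zornMul (Pi.single k 1 : V K) (Pi.single 7 1) = Pi.single k 1 →
      bl (Pi.single k 1 : V K) (Pi.single 5 1) = 0 →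
      g.1 (Pi.single k 1) = g.1 (Pi.single k 1) 1 • Pi.single 1 1 + g.1 (Pi.single k 1) 3 • Pi.single 3 1 := by
    intro k ha hb hc
    set u := g.1 (Pi.single k 1) with hu
    have h3 : zornMul (Pi.single 0 1) u = u := by
      conv_lhs => rw [hu, ← h0, ← mem_AutO.1 g.2, ha]
    have h4 : zornMul u (Pi.single 7 1) = u := by
      conv_lhs => rw [hu, ← h7, ← mem_AutO.1 g.2, hb]
    have e4 : u 4 = 0 := by
      have := congrFun h3 4
      rw [mul4] at this
      simpa using this.symm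
    have e5 : u 5 = 0 := by
      have := congrFun h3 5
      rw [mul5] at this
      simpa using this.symm
    have e6 : u 6 = 0 := by
      have := congrFun h3 6
      rw [mul6] at this
      simpa using this.symm
    have e7 : u 7 = 0 := by
      have := congrFun h3 7
      rw [mul7] at this
      simpa using this.symm
    have e0 : u 0 = 0 := by
      have := congrFun h4 0
      rw [mul0] at this
      simpa using this.symm
    have e2 : u 2 = 0 := by
      have := map_bl g.2 (Pi.single k 1 : V K) (Pi.single 5 1)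
      rw [← hu, h5, bl_single5, hc] at this
      exact neg_eq_zero.1 this
    apply ext8 <;> simp [e0, e2, e4, e5, e6, e7]
  have k1 := key 1 m01 m17 (by rw [bl_single5]; simp)
  have k3 := key 3 m03 m37 (by rw [bl_single5]; simp)
  set u := g.1 (Pi.single 1 1) with hu
  set v := g.1 (Pi.single 3 1) with hv
  have k4 : g.1 (Pi.single 4 1) = v 3 • Pi.single 4 1 - v 1 • Pi.single 6 1 := by
    rw [← m23, mem_AutO.1 g.2, h2, ← hv, k3]
    apply ext8 <;> simp [mul0, mul1, mul2, mul3, mul4, mul5, mul6, mul7]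
  have k6 : g.1 (Pi.single 6 1) = u 1 • Pi.single 6 1 - u 3 • Pi.single 4 1 := by
    rw [← m12, mem_AutO.1 g.2, h2, ← hu, k1]
    apply ext8 <;> simp [mul0, mul1, mul2, mul3, mul4, mul5, mul6, mul7]
  have hdet : u 1 * v 3 - v 1 * u 3 = 1 := by
    have := map_bl g.2 (Pi.single 1 1 : V K) (Pi.single 4 1)
    rw [← hu, k4, k1] at this
    simp only [bl, Pi.add_apply, Pi.sub_apply, Pi.smul_apply, smul_eq_mul, Pi.single_apply, Fin.reduceEq, if_true,
      if_false, mul_one, mul_zero, add_zero, zero_add, zero_mul, sub_zero, zero_sub] at this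
    linear_combination -this
  obtain ⟨P, hP⟩ : ∃ P : SL K, P.1 = !![u 1, v 1; u 3, v 3] :=
    ⟨⟨!![u 1, v 1; u 3, v 3], by rw [Matrix.det_fin_two_of]; exact hdet⟩, rfl⟩
  have p00 : P.1 0 0 = u 1 := by rw [hP]; rfl
  have p01 : P.1 0 1 = v 1 := by rw [hP]; rfl
  have p10 : P.1 1 0 = u 3 := by rw [hP]; rfl
  have p11 : P.1 1 1 = v 3 := by rw [hP]; rfl
  refine ⟨P, Subtype.ext (ext_single fun i => ?_)⟩
  fin_cases i
  · exact (Es0 P).trans h0.symm
  · exact (Es1 P).trans (by rw [p00, p10]; exact k1.symm)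
  · exact (Es2 P).trans h2.symm
  · exact (Es3 P).trans (by rw [p01, p11]; exact k3.symm)
  · exact (Es4 P).trans (by rw [p01, p11]; exact k4.symm)
  · exact (Es5 P).trans h5.symm
  · exact (Es6 P).trans (by rw [p00, p10]; exact k6.symm)
  · exact (Es7 P).trans h7.symm

/-- the homomorphism to the additive group -/
noncomputable def sK (K : Type u) [Field K] : ↥(SK K) →* Multiplicative K where
  toFun g := Multiplicative.ofAdd (g.1.1 (Pi.single 0 1) 2)
  map_one' := by
    show Multiplicative.ofAdd ((Pi.single 0 1 : V K) 2) = 1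
    simp
  map_mul' g h := by
    rw [← ofAdd_add]
    congr 1
    show g.1.1 (h.1.1 (Pi.single 0 1)) 2 = _
    rw [SK_e0 h.2, map_add, map_smul, g.2.2, SK_e0 g.2]
    simp

theorem card_SK_dvd [Fintype K] :
    Nat.card ↥(SK K) ∣ (Fintype.card K * (Fintype.card K ^ 2 - 1)) * Fintype.card K := by
  have : Finite (V K ≃ₗ[K] V K) := Finite.of_injective (fun f => (f : V K → V K)) DFunLike.coe_injective
  rw [← Subgroup.card_mul_index (sK K).ker, Subgroup.index_ker]
  refine Nat.mul_dvd_mul ?_ ?_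
  · have h1 : (sK K).ker.map ((SK K).subtype) ≤ (EE2 K).range := by
      rintro _ ⟨g, hg, rfl⟩
      have h0 : g.1.1 (Pi.single 0 1) 2 = 0 := by
        have h1 : Multiplicative.ofAdd (g.1.1 (Pi.single 0 1) 2) = 1 := hg
        exact h1
      have h2 := SK_e0 g.2
      rw [h0, zero_smul, add_zero] at h2
      exact fix_DD g.2 h2
    have h2 : Nat.card ((sK K).ker) = Nat.card ((sK K).ker.map ((SK K).subtype)) :=
      Nat.card_congr ((sK K).ker.equivMapOfInjective _ (SK K).subtype_injective).toEquiv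
    rw [h2, ← Cfsg.Agent.ClassicalGeometry.PSL2Basic.card_SL2]
    exact (Subgroup.card_dvd_of_le h1).trans (Subgroup.card_range_dvd _)
  · have h1 := Subgroup.card_subgroup_dvd_card (sK K).range
    rwa [Nat.card_eq_fintype_card (α := Multiplicative K), Fintype.card_multiplicative] at h1

theorem card_KK_dvd [Fintype K] : Nat.card ↥(KK K) ∣
    (Fintype.card K ^ 2 - 1) * ((Fintype.card K * (Fintype.card K ^ 2 - 1)) * Fintype.card K) := by
  have : Finite (V K ≃ₗ[K] V K) := Finite.of_injective (fun f => (f : V K → V K)) DFunLike.coe_injective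
  let f : ↥(KK K) → ↥(CC K) := fun g => ⟨g.1.1 (Pi.single 2 1), by
    refine ⟨(g.2 _).2 e2_mem_CC.1, ?_, ?_, ?_⟩
    · rw [map_tr g.1.2]; exact e2_mem_CC.2.1
    · rw [map_nm g.1.2]; exact e2_mem_CC.2.2.1
    · intro h
      exact e2_mem_CC.2.2.2 (g.1.1.injective (by rw [h, map_zero]))⟩
  have hf : ∀ a b : ↥(KK K), f a = f b ↔ a⁻¹ * b ∈ (SK K).subgroupOf (KK K) := by
    intro a b
    rw [Subgroup.mem_subgroupOf]
    constructor
    · intro h
      refine ⟨(a⁻¹ * b).2, ?_⟩
      have h1 : a.1.1 (Pi.single 2 1) = b.1.1 (Pi.single 2 1) := congrArg Subtype.val h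
      show (a.1.1⁻¹ * b.1.1) (Pi.single 2 1) = _
      rw [LinearEquiv.mul_apply, ← h1, inv_apply_self]
    · rintro ⟨-, h⟩
      have h1 : (a.1.1⁻¹ * b.1.1) (Pi.single 2 1) = Pi.single 2 1 := h
      rw [LinearEquiv.mul_apply] at h1
      apply Subtype.ext
      show a.1.1 (Pi.single 2 1) = b.1.1 (Pi.single 2 1)
      rw [← h1, apply_inv_self, h1]
  have hsurj : Function.Surjective f := by
    rintro ⟨w, hw⟩
    obtain ⟨g, hg, e⟩ := exists_CC hw
    refine ⟨⟨g⁻¹, (KK K).inv_mem hg⟩, ?_⟩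
    apply Subtype.ext
    show g.1⁻¹ (Pi.single 2 1) = w
    rw [← e, inv_apply_self]
  let F : ↥(KK K) ⧸ (SK K).subgroupOf (KK K) → ↥(CC K) :=
    Quotient.lift f fun a b h => (hf a b).2 (QuotientGroup.leftRel_apply.1 h)
  have hF : Function.Bijective F := by
    constructor
    · intro a b
      refine Quotient.inductionOn₂ a b fun a b h => ?_
      exact Quotient.sound (QuotientGroup.leftRel_apply.2 ((hf a b).1 h))
    · intro w
      obtain ⟨g, hg⟩ := hsurj w
      exact ⟨Quotient.mk _ g, hg⟩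
  rw [Subgroup.card_eq_card_quotient_mul_card_subgroup ((SK K).subgroupOf (KK K)),
    Nat.card_congr (Equiv.ofBijective F hF), card_CC,
    Nat.card_congr (Subgroup.subgroupOfEquivOfLe SK_le).toEquiv]
  exact Nat.mul_dvd_mul_left _ card_SK_dvd

/-! ### the row -/

theorem cay (P : SL K) : P.1 * P.1 = (P.1 0 0 + P.1 1 1) • P.1 - 1 := by
  have hd := P.2
  rw [Matrix.det_fin_two] at hd
  ext i j
  fin_cases i <;> fin_cases j
  · show (P.1 * P.1) 0 0 = (P.1 0 0 + P.1 1 1) * P.1 0 0 - (1 : Matrix (Fin 2) (Fin 2) K) 0 0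
    rw [Matrix.mul_apply, Fin.sum_univ_two, Matrix.one_apply_eq]
    linear_combination -hd
  · show (P.1 * P.1) 0 1 = (P.1 0 0 + P.1 1 1) * P.1 0 1 - (1 : Matrix (Fin 2) (Fin 2) K) 0 1
    rw [Matrix.mul_apply, Fin.sum_univ_two, Matrix.one_apply_ne (by decide)]
    ring
  · show (P.1 * P.1) 1 0 = (P.1 0 0 + P.1 1 1) * P.1 1 0 - (1 : Matrix (Fin 2) (Fin 2) K) 1 0
    rw [Matrix.mul_apply, Fin.sum_univ_two, Matrix.one_apply_ne (by decide)]
    ring
  · show (P.1 * P.1) 1 1 = (P.1 0 0 + P.1 1 1) * P.1 1 1 - (1 : Matrix (Fin 2) (Fin 2) K) 1 1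
    rw [Matrix.mul_apply, Fin.sum_univ_two, Matrix.one_apply_eq]
    linear_combination -hd

/-- scalar matrices of determinant one -/
theorem of_scalar {Q : SL K} {d : K} (h : Q.1 = d • 1) : Q = 1 ∨ Q = -1 := by
  have hd := Q.2
  rw [h, Matrix.det_smul, Matrix.det_one, mul_one, Fintype.card_fin, pow_two] at hd
  rcases mul_self_eq_one_iff.1 hd with h1 | h1
  · left
    apply Subtype.ext
    rw [h, h1, one_smul]; rfl
  · right
    apply Subtype.ext
    rw [h, h1, Matrix.SpecialLinearGroup.coe_neg]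
    simp

theorem of_sq {Q : SL K} (h2 : (2 : K) ≠ 0) (h : Q * Q = 1) : Q = 1 ∨ Q = -1 := by
  have h1 := cay Q
  have h3 : Q.1 * Q.1 = 1 := congrArg Subtype.val h
  rw [h3] at h1
  have h4 : (Q.1 0 0 + Q.1 1 1) • Q.1 = (2 : K) • (1 : Matrix (Fin 2) (Fin 2) K) := by
    rw [two_smul]
    rw [eq_sub_iff_add_eq] at h1
    exact h1.symm
  have ht : Q.1 0 0 + Q.1 1 1 ≠ 0 := by
    intro ht
    rw [ht, zero_smul] at h4
    have h5 := congrFun (congrFun h4 0) 0
    rw [Matrix.smul_apply, Matrix.one_apply_eq, smul_eq_mul, mul_one] at h5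
    exact h2 h5.symm
  refine of_scalar (d := (Q.1 0 0 + Q.1 1 1)⁻¹ * 2) ?_
  rw [← smul_smul, ← h4, smul_smul, inv_mul_cancel₀ ht, one_smul]

theorem cube_of_six {P : SL K} (h2 : (2 : K) ≠ 0) (h6 : orderOf P = 6) : P ^ 3 = -1 := by
  have h1 : P ^ 3 * P ^ 3 = 1 := by
    rw [← pow_add, show 3 + 3 = orderOf P by rw [h6], pow_orderOf_eq_one]
  rcases of_sq h2 h1 with h | h
  · have := orderOf_dvd_of_pow_eq_one h
    rw [h6] at this
    omega
  · exact h

theorem order_six {P : SL K} (h2 : (2 : K) ≠ 0) (h6 : orderOf P = 6) : P.1 * P.1 = P.1 - 1 := by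
  have h1 := cay P
  have h3 : P.1 * P.1 * P.1 = -1 := by
    have h4 : (P ^ 3).1 = (-1 : SL K).1 := congrArg Subtype.val (cube_of_six h2 h6)
    rw [Matrix.SpecialLinearGroup.coe_neg] at h4
    have h5 : (P ^ 3).1 = P.1 * P.1 * P.1 := by
      rw [pow_succ, pow_two]; rfl
    rw [← h5, h4]; simp
  set t := P.1 0 0 + P.1 1 1 with ht
  have h4 : (t * t - 1) • P.1 = (t - 1) • (1 : Matrix (Fin 2) (Fin 2) K) := by
    have h5 : P.1 * P.1 * P.1 = (t * t - 1) • P.1 - t • (1 : Matrix (Fin 2) (Fin 2) K) := by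
      rw [h1, sub_mul, smul_mul_assoc, h1, one_mul, smul_sub, smul_smul, sub_smul, one_smul]
      abel
    rw [h5, sub_eq_iff_eq_add] at h3
    rw [h3, sub_smul, one_smul]; abel
  by_cases htt : t * t - 1 = 0
  · rw [htt, zero_smul] at h4
    have h5 := congrFun (congrFun h4 0) 0
    rw [Matrix.smul_apply, Matrix.one_apply_eq, smul_eq_mul, mul_one] at h5
    have h6 : t = 1 := by
      have : (0 : K) = t - 1 := h5
      linear_combination -this
    rw [h1, h6, one_smul]
  · exfalso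
    have h5 : P.1 = ((t * t - 1)⁻¹ * (t - 1)) • (1 : Matrix (Fin 2) (Fin 2) K) := by
      rw [← smul_smul, ← h4, smul_smul, inv_mul_cancel₀ htt, one_smul]
    have h7 : P ^ 2 = 1 := by
      rcases of_scalar h5 with h | h
      · rw [h, one_pow]
      · rw [h, neg_one_sq]
    have := orderOf_dvd_of_pow_eq_one h7
    rw [h6] at this
    omega

theorem rho_inj : Function.Injective (rho K) := by
  intro g h e
  exact Subtype.ext (LinearEquiv.toLinearMap_injective e)

/-- a `p'`-group `H` of automorphisms containing `X` centralises `zz` -/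
theorem central {p : ℕ} [Fact p.Prime] [CharP K p] (h5 : 5 ≤ p) {a b : K} (hab : a ^ 2 + b ^ 2 = -1)
    (h2 : (2 : K) ≠ 0) (h3 : (3 : K) ≠ 0) {H : Subgroup ↥(AutO K)} [Finite H] (hH : ¬ p ∣ Nat.card H)
    (hX : (X3 hab h2).map (EE2 K) ≤ H) {g : ↥(AutO K)} (hg : g ∈ H) : g * zz K = zz K * g := by
  have hXm : ∀ P ∈ X3 hab h2, EE2 K P ∈ H := fun P hP => hX ⟨P, hP, rfl⟩
  let ρ : ↥H →* Module.End K (V K) := (rho K).comp H.subtype
  have hsix : ∀ P : SL K, orderOf P = 6 → (rho K (EE2 K P) - 1) * (rho K (EE2 K P) * rho K (EE2 K P) -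
      rho K (EE2 K P) + 1) = 0 := fun P hP => six P (order_six h2 hP)
  -- an element of order six
  obtain ⟨P, hPX, hP6⟩ : ∃ P : SL K, P ∈ X3 hab h2 ∧ orderOf P = 6 := by
    refine ⟨-qw hab h2, ?_, orderOf_neg_six h2 (orderOf_qw hab h2 h3)⟩
    rw [← neg_one_mul]
    exact mul_mem (neg_one_mem hab h2) (w_mem hab h2)
  have hP3 : EE2 K P ^ 3 = zz K := by
    rw [← map_pow, cube_of_six h2 hP6]; rfl
  set c : ↥(AutO K) := g * zz K * g⁻¹ with hc
  have hcomm : ∀ Q ∈ X3 hab h2, c * EE2 K Q = EE2 K Q * c := by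
    have h1 : X3 hab h2 ≤ (Subgroup.centralizer {c}).comap (EE2 K) := by
      rw [← closure_order_six hab h2 h3, Subgroup.closure_le]
      rintro Q ⟨hQX, hQ6⟩
      show EE2 K Q ∈ Subgroup.centralizer {c}
      rw [Subgroup.mem_centralizer_singleton_iff]
      have hτ : g * EE2 K P * g⁻¹ ∈ H := H.mul_mem (H.mul_mem hg (hXm P hPX)) (H.inv_mem hg)
      have h4 := Cfsg.Agent.H170.RV.t60_mod p h5 hH ρ ⟨_, hτ⟩ ⟨_, hXm Q hQX⟩ (by
        show (rho K (g * EE2 K P * g⁻¹) - 1) * (rho K (g * EE2 K P * g⁻¹) * rho K (g * EE2 K P * g⁻¹) -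
          rho K (g * EE2 K P * g⁻¹) + 1) = 0
        have e1 : rho K g * rho K g⁻¹ = 1 := by rw [← map_mul, mul_inv_cancel, map_one]
        have e2 : rho K g⁻¹ * rho K g = 1 := by rw [← map_mul, inv_mul_cancel, map_one]
        have e3 : rho K (g * EE2 K P * g⁻¹) = rho K g * rho K (EE2 K P) * rho K g⁻¹ := by
          rw [map_mul, map_mul]
        rw [e3]
        set A := rho K g
        set B := rho K g⁻¹
        set T := rho K (EE2 K P)
        have e4 : A * T * B - 1 = A * (T - 1) * B := by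
          rw [mul_sub, sub_mul, mul_one, e1]
        have e5 : A * T * B * (A * T * B) - A * T * B + 1 = A * (T * T - T + 1) * B := by
          have : A * T * B * (A * T * B) = A * (T * T) * B := by
            calc A * T * B * (A * T * B) = A * T * (B * A) * T * B := by noncomm_ring
              _ = A * (T * T) * B := by rw [e2]; noncomm_ring
          rw [this, mul_add, mul_sub, add_mul, sub_mul, mul_one, e1]
        rw [e4, e5]
        calc A * (T - 1) * B * (A * (T * T - T + 1) * B) = A * (T - 1) * (B * A) * (T * T - T + 1) * B := by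
              noncomm_ring
          _ = A * ((T - 1) * (T * T - T + 1)) * B := by rw [e2]; noncomm_ring
          _ = 0 := by rw [hsix P hP6]; simp) (hsix Q hQ6)
      have h6 : (⟨g * EE2 K P * g⁻¹, hτ⟩ : ↥H) ^ 3 = ⟨c, by
          rw [hc, ← hP3]
          exact H.mul_mem (H.mul_mem hg (H.pow_mem (hXm P hPX) 3)) (H.inv_mem hg)⟩ := by
        apply Subtype.ext
        show (g * EE2 K P * g⁻¹) ^ 3 = c
        rw [conj_pow, hP3]
      rw [h6] at h4
      apply rho_inj
      rw [map_mul, map_mul]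
      exact h4.symm
    intro Q hQ
    have := h1 hQ
    rw [Subgroup.mem_comap, Subgroup.mem_centralizer_singleton_iff] at this
    exact this.symm
  have hz2 : zz K * zz K = 1 := by
    rw [zz, ← map_mul, neg_mul_neg, one_mul, map_one]
  have hc2 : c * c = 1 := by
    rw [hc]
    calc g * zz K * g⁻¹ * (g * zz K * g⁻¹) = g * (zz K * zz K) * g⁻¹ := by group
      _ = 1 := by rw [hz2]; group
  have happ : ∀ {f f' : ↥(AutO K)}, f = f' → ∀ x, f.1 x = f'.1 x := by
    rintro f _ rfl x; rfl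
  rcases cent h2 hab (g := c) (happ (hcomm _ (i_mem hab h2))) (happ (hcomm _ (j_mem hab h2))) (happ hc2) with h | h
  · exfalso
    apply zz_ne_one (K := K) h2
    have : zz K = g⁻¹ * c * g := by rw [hc]; group
    rw [this, h]; group
  · have : g * zz K = c * g := by rw [hc]; group
    rw [this, h]

/-- the numbers -/
theorem three_dvd {q h idx : ℕ} (h3 : ¬ 3 ∣ q) (h1 : 1 ≤ q)
    (hh : h ∣ (q ^ 2 - 1) * ((q * (q ^ 2 - 1)) * q)) (hn : h * idx = q ^ 6 * (q ^ 2 - 1) * (q ^ 6 - 1))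
    (h0 : 0 < h) : 3 ∣ idx := by
  obtain ⟨m, hm⟩ : ∃ m, q ^ 2 = m + 1 := ⟨q ^ 2 - 1, by have := Nat.one_le_pow 2 q h1; omega⟩
  have hm1 : q ^ 2 - 1 = m := by omega
  have hq6 : q ^ 6 - 1 = m * (m ^ 2 + 3 * m + 3) := by
    have : q ^ 6 = (m + 1) ^ 3 := by rw [← hm, ← pow_mul]
    rw [this]
    have h2 : (m + 1) ^ 3 = m * (m ^ 2 + 3 * m + 3) + 1 := by ring
    omega
  have hm3 : 3 ∣ m := by
    have h4 : q % 3 = 1 ∨ q % 3 = 2 := by omega
    have h5 : q ^ 2 % 3 = 1 := by
      rcases h4 with h4 | h4 <;> rw [Nat.pow_mod, h4]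
    omega
  obtain ⟨c, hc⟩ := hm3
  have h6 : m ^ 2 + 3 * m + 3 = 3 * (3 * c ^ 2 + 3 * c + 1) := by rw [hc]; ring
  rw [hm1] at hh
  obtain ⟨d, hd⟩ := hh
  have h7 : h * idx = h * (3 * (d * (q ^ 4 * (3 * c ^ 2 + 3 * c + 1)))) := by
    rw [hn, hm1, hq6, h6]
    calc q ^ 6 * m * (m * (3 * (3 * c ^ 2 + 3 * c + 1))) =
        (m * (q * m * q)) * (3 * (q ^ 4 * (3 * c ^ 2 + 3 * c + 1))) := by ring
      _ = _ := by rw [hd]; ring
  have h8 := Nat.eq_of_mul_eq_mul_left h0 h7
  rw [h8]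
  exact Dvd.intro _ rfl

/-- **R5 for `G₂(q)`.** -/
theorem g2_not_DB {π : Set ℕ} (h2π : 2 ∈ π) (h3π : 3 ∈ π) {p : ℕ} (hp : p.Prime) (hpπ : p ∉ π)
    {S : Type u} [Group S] (F : Type) [Field F] [Fintype F] [CharP F p]
    (hS : Nonempty (S ≃* Cfsg.Lie.chevG2.group F)) : ¬ DB π S := by
  intro hDB
  obtain ⟨e⟩ := hS
  obtain ⟨e'⟩ := nonempty_equiv F
  have hD : DB π ↥(AutO F) := Cfsg.Agent.H808.RV.DB.congr (e.trans e'.symm) hDB
  have : Fact p.Prime := ⟨hp⟩
  have hp2 : p ≠ 2 := by rintro rfl; exact hpπ h2π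
  have hp3 : p ≠ 3 := by rintro rfl; exact hpπ h3π
  have h5 : 5 ≤ p := by
    have h1 := hp.two_le
    by_contra h
    have h4 : p = 4 := by omega
    rw [h4] at hp
    exact absurd hp (by decide)
  have hcast : ∀ n : ℕ, ¬ p ∣ n → (n : F) ≠ 0 := by
    intro n hn h
    exact hn ((CharP.cast_eq_zero_iff F p n).1 h)
  have h2 : (2 : F) ≠ 0 := by
    have := hcast 2 fun h => hp2 ((Nat.prime_dvd_prime_iff_eq hp Nat.prime_two).1 h)
    exact_mod_cast this
  have h3 : (3 : F) ≠ 0 := by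
    have := hcast 3 fun h => hp3 ((Nat.prime_dvd_prime_iff_eq hp Nat.prime_three).1 h)
    exact_mod_cast this
  have hfin : Finite (V F ≃ₗ[F] V F) := Finite.of_injective (fun f => (f : V F → V F)) DFunLike.coe_injective
  obtain ⟨a, b, hab⟩ := exists_ab F p
  -- the Hall subgroup
  obtain ⟨H, hH, hX⟩ := hD.dom ((X3 hab h2).map (EE2 F)) (by
    intro r hr hd
    have h4 : r ∣ Nat.card (X3 hab h2) := hd.trans (Subgroup.card_map_dvd _ _)
    rcases prime_of_dvd hab h2 h3 hr h4 with h | h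
    · rw [h]; exact h2π
    · rw [h]; exact h3π)
  have hpH : ¬ p ∣ Nat.card H := fun h => hpπ (hH.1 p hp h)
  have hle : H ≤ KK F := fun g hg => mem_KK_of_comm h2 (central h5 hab h2 h3 hpH hX hg)
  have hcard : Nat.card H ∣ (Fintype.card F ^ 2 - 1) * ((Fintype.card F * (Fintype.card F ^ 2 - 1)) * Fintype.card F) :=
    (Subgroup.card_dvd_of_le hle).trans card_KK_dvd
  have hq3 : ¬ 3 ∣ Fintype.card F := by
    obtain ⟨n, hn, hc⟩ := FiniteField.card F p
    intro h
    rw [hc] at h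
    exact hp3 ((Nat.prime_dvd_prime_iff_eq Nat.prime_three hp).1 (Nat.prime_three.dvd_of_dvd_pow h)).symm
  have hidx := three_dvd (h := Nat.card H) (idx := H.index) hq3 Fintype.card_pos hcard
    (by rw [H.card_mul_index, card_AutO]) Nat.card_pos
  exact hH.2 3 Nat.prime_three h3π hidx

end Cfsg.Agent.H557.RV
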